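import Groth.Agent.Lib.UnitsFG.Domain
import Mathlib.AlgebraicGeometry.Properties
import Mathlib.AlgebraicGeometry.Morphisms.FiniteType
import Mathlib.RingTheory.Ideal.MinimalPrime.Noetherian
import Mathlib.Tactic

/-! Global units of reduced schemes locally of finite type over a field. -/

set_option autoImplicit false
set_option linter.style.haveILetI false
universe u

open CategoryTheory AlgebraicGeometry TopologicalSpace

namespace Groth.Agent.UnitsFG

/-- The structure map on global sections. -/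
noncomputable def globalMap {k : Type u} [Field k] {X : Scheme.{u}} (f : X ⟶ Spec (CommRingCat.of k)) :
    k →+* Γ(X, ⊤) :=
  f.appTop.hom.comp (Scheme.ΓSpecIso (CommRingCat.of k)).inv.hom

/-- Restriction to an open. -/
noncomputable def res (X : Scheme.{u}) (U : X.Opens) : Γ(X, ⊤) →+* Γ(X, U) :=
  (X.presheaf.map (homOfLE le_top).op).hom

theorem basicOpen_res (X : Scheme.{u}) (U : X.Opens) (s : Γ(X, ⊤)) :
    X.basicOpen (res X U s) = U ⊓ X.basicOpen s :=
  Scheme.basicOpen_res _ _ _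

theorem finiteType_res {k : Type u} [Field k] {X : Scheme.{u}} (f : X ⟶ Spec (CommRingCat.of k))
    [LocallyOfFiniteType f] {U : X.Opens} (hU : IsAffineOpen U) :
    ((res X U).comp (globalMap f)).FiniteType := by
  have h1 := f.finiteType_appLE (isAffineOpen_top (Spec (CommRingCat.of k))) hU (e := le_top)
  have h2 : Function.Surjective ((Scheme.ΓSpecIso (CommRingCat.of k)).inv.hom) :=
    (Scheme.ΓSpecIso (CommRingCat.of k)).commRingCatIsoToRingEquiv.symm.surjective
  exact h1.comp (RingHom.FiniteType.of_surjective _ h2)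

theorem isDomain_of_irreducible {X : Scheme.{u}} [IsReduced X] {U : X.Opens}
    (hU : IsIrreducible (U : Set X)) : IsDomain Γ(X, U) := by
  obtain ⟨x, hx⟩ := hU.1
  haveI : Nonempty U := ⟨⟨x, hx⟩⟩
  haveI : NoZeroDivisors Γ(X, U) := by
    refine ⟨fun {a b} hab => ?_⟩
    have h : X.basicOpen a ⊓ X.basicOpen b = ⊥ := by
      rw [← Scheme.basicOpen_mul, hab]
      exact (basicOpen_eq_bot_iff _).2 rfl
    by_contra hne
    push Not at hne
    have hnea : (X.basicOpen a : Set X).Nonempty := by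
      rw [Set.nonempty_iff_ne_empty]
      exact fun he => hne.1 ((basicOpen_eq_bot_iff a).1 (Opens.ext he))
    have hneb : (X.basicOpen b : Set X).Nonempty := by
      rw [Set.nonempty_iff_ne_empty]
      exact fun he => hne.2 ((basicOpen_eq_bot_iff b).1 (Opens.ext he))
    obtain ⟨y, hya⟩ := hnea
    obtain ⟨z, hzb⟩ := hneb
    obtain ⟨w, -, hwa, hwb⟩ := hU.2 _ _ (X.basicOpen a).2 (X.basicOpen b).2
      ⟨y, X.basicOpen_le a hya, hya⟩ ⟨z, X.basicOpen_le b hzb, hzb⟩
    have : w ∈ X.basicOpen a ⊓ X.basicOpen b := ⟨hwa, hwb⟩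
    rw [h] at this
    exact this
  exact NoZeroDivisors.to_isDomain _

/-- If there are finitely many components, units modulo the elements integral over the base embed into a
finitely generated free abelian group. -/
theorem exists_hom_global {k : Type u} [Field k] {X : Scheme.{u}} [IsReduced X]
    (f : X ⟶ Spec (CommRingCat.of k)) [LocallyOfFiniteType f]
    (hirr : (irreducibleComponents (X : Type u)).Finite) :
    ∃ (ι : Type u) (_ : Fintype ι) (φ : (Γ(X, ⊤))ˣ →* Multiplicative (ι → ℤ)),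
      ∀ u, φ u = 1 → (globalMap f).IsIntegralElem (u : Γ(X, ⊤)) := by
  classical
  haveI : Fintype (irreducibleComponents (X : Type u)) := hirr.fintype
  have hUex : ∀ Z : irreducibleComponents (X : Type u),
      ∃ U : X.Opens, IsAffineOpen U ∧ IsIrreducible (U : Set X) ∧ (U : Set X) ⊆ Z.1 := by
    rintro ⟨Z, hZ⟩
    set W : Set X := (⋃₀ (irreducibleComponents (X : Type u) \ {Z}))ᶜ with hW
    have hWopen : IsOpen W := by
      rw [hW, isOpen_compl_iff, Set.sUnion_eq_biUnion]
      exact (hirr.subset Set.sdiff_subset).isClosed_biUnion fun Y hY => isClosed_of_mem_irreducibleComponents Y hY.1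
    have hWZ : W ⊆ Z := fun x hx => by
      have hxc := irreducibleComponent_mem_irreducibleComponents x
      by_cases h : irreducibleComponent x = Z
      · exact h ▸ mem_irreducibleComponent
      · exact absurd (Set.mem_sUnion.2 ⟨_, (show irreducibleComponent x ∈ irreducibleComponents (X : Type u) \ {Z} from ⟨hxc, h⟩),
            mem_irreducibleComponent⟩) hx
    have hWne : W.Nonempty := by
      by_contra h
      have hsub : Z ⊆ ⋃₀ (irreducibleComponents (X : Type u) \ {Z}) := fun x _ => by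
        by_contra hx
        exact h ⟨x, hx⟩
      obtain ⟨Y, hY, hle⟩ := (isIrreducible_iff_sUnion_isClosed.1 hZ.1)
        (hirr.subset Set.sdiff_subset).toFinset (fun Y hY => isClosed_of_mem_irreducibleComponents Y
          ((Set.Finite.mem_toFinset _).1 hY).1) (by rwa [Set.Finite.coe_toFinset])
      have hY' := (Set.Finite.mem_toFinset _).1 hY
      exact hY'.2 (le_antisymm (hZ.2 hY'.1.1 hle) hle)
    obtain ⟨x, hx⟩ := hWne
    obtain ⟨U, hU, hxU, hUW⟩ := exists_isAffineOpen_mem_and_subset (show x ∈ (⟨W, hWopen⟩ : X.Opens) from hx)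
    refine ⟨U, hU, ⟨⟨x, hxU⟩, ?_⟩, fun y hy => hWZ (hUW hy)⟩
    intro A B hA hB ⟨a, haU, haA⟩ ⟨b, hbU, hbB⟩
    obtain ⟨c, hc, hcA, hcB⟩ := hZ.1.2 (A ∩ U) (B ∩ U) (hA.inter U.2) (hB.inter U.2)
      ⟨a, hWZ (hUW haU), haA, haU⟩ ⟨b, hWZ (hUW hbU), hbB, hbU⟩
    exact ⟨c, hcA.2, hcA.1, hcB.1⟩
  choose U hUaff hUirr hUZ using hUex
  have hdata : ∀ Z, ∃ (ι : Type u) (_ : Fintype ι) (φ : (Γ(X, U Z))ˣ →* Multiplicative (ι → ℤ)),
      ∀ u, φ u = 1 → ((res X (U Z)).comp (globalMap f)).IsIntegralElem (u : Γ(X, U Z)) := by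
    intro Z
    haveI := isDomain_of_irreducible (hUirr Z)
    letI := ((res X (U Z)).comp (globalMap f)).toAlgebra
    haveI : Algebra.FiniteType k Γ(X, U Z) := finiteType_res f (hUaff Z)
    obtain ⟨ι, i, φ, hφ⟩ := exists_hom (k := k) Γ(X, U Z)
    exact ⟨ι, i, φ, fun u hu => isAlgebraic_iff_isIntegral.1 (hφ u hu)⟩
  choose ι hι φ hφ using hdata
  let Φ : (Γ(X, ⊤))ˣ →* Multiplicative ((Σ Z, ι Z) → ℤ) :=
    MonoidHom.mk' (fun u => Multiplicative.ofAdd fun p =>
      Multiplicative.toAdd (φ p.1 (Units.map (res X (U p.1) : Γ(X, ⊤) →* Γ(X, U p.1)) u)) p.2) fun u v => by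
      rw [← ofAdd_add]
      congr 1
      funext p
      rw [map_mul, map_mul, toAdd_mul]
      rfl
  refine ⟨_, inferInstance, Φ, fun u hu => ?_⟩
  have hZ : ∀ Z, ((res X (U Z)).comp (globalMap f)).IsIntegralElem (res X (U Z) (u : Γ(X, ⊤))) := by
    intro Z
    refine hφ Z (Units.map (res X (U Z) : Γ(X, ⊤) →* Γ(X, U Z)) u) (Multiplicative.toAdd.injective (funext fun i => ?_))
    exact congrFun (Multiplicative.ofAdd.injective hu) ⟨Z, i⟩
  choose q hqm hq using hZ
  refine ⟨∏ Z, q Z, Polynomial.monic_prod_of_monic _ _ fun Z _ => hqm Z, ?_⟩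
  set w := Polynomial.eval₂ (globalMap f) (u : Γ(X, ⊤)) (∏ Z, q Z) with hw
  have hres : ∀ Z, res X (U Z) w = 0 := by
    intro Z
    rw [hw, Polynomial.eval₂_finsetProd, map_prod]
    refine Finset.prod_eq_zero (Finset.mem_univ Z) ?_
    rw [Polynomial.hom_eval₂]
    exact hq Z
  refine (basicOpen_eq_bot_iff w).1 ?_
  by_contra hne
  obtain ⟨x, hx⟩ : (X.basicOpen w : Set X).Nonempty := by
    rw [Set.nonempty_iff_ne_empty]
    exact fun he => hne (Opens.ext he)
  set Z : irreducibleComponents (X : Type u) :=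
    ⟨irreducibleComponent x, irreducibleComponent_mem_irreducibleComponents x⟩
  obtain ⟨y, hy⟩ := (hUirr Z).1
  obtain ⟨z, -, hz1, hz2⟩ := (Z.2.1).2 _ _ (X.basicOpen w).2 (U Z).2
    ⟨x, mem_irreducibleComponent, hx⟩ ⟨y, hUZ Z hy, hy⟩
  have hz : z ∈ X.basicOpen (res X (U Z) w) := by rw [basicOpen_res]; exact ⟨hz2, hz1⟩
  rw [hres Z, (basicOpen_eq_bot_iff _).2 rfl] at hz
  exact hz

/-- A subfield of the global functions of a connected reduced scheme locally of finite type over `k` is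
integral over `k`. -/
theorem isIntegralElem_of_field_hom {k : Type u} [Field k] {X : Scheme.{u}} [IsReduced X] [ConnectedSpace X]
    (f : X ⟶ Spec (CommRingCat.of k)) [LocallyOfFiniteType f] {F : Type*} [Field F] (i : F →+* Γ(X, ⊤))
    (t : F) : (globalMap f).IsIntegralElem (i t) := by
  classical
  let ev : Polynomial k → Γ(X, ⊤) := fun q => Polynomial.eval₂ (globalMap f) (i t) q
  let C : Polynomial k → Set X := fun q => ((X.basicOpen (ev q) : X.Opens) : Set X)ᶜ
  -- every affine open meets only finitely many of the `C q`, and is covered by them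
  have hloc : ∀ V : X.Opens, IsAffineOpen V → ∃ Qs : Finset (Polynomial k),
      (∀ q ∈ Qs, q.Monic ∧ Irreducible q) ∧ ∀ y ∈ V, ∃ q ∈ Qs, y ∈ C q := by
    intro V hV
    letI := ((res X V).comp (globalMap f)).toAlgebra
    haveI : Algebra.FiniteType k Γ(X, V) := finiteType_res f hV
    haveI : IsNoetherianRing Γ(X, V) := Algebra.FiniteType.isNoetherianRing k _
    set S : Set (Ideal Γ(X, V)) := minimalPrimes Γ(X, V) with hS
    have hfin : S.Finite := minimalPrimes.finite_of_isNoetherianRing Γ(X, V)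
    have hpoly : ∀ p : S, ∃ q : Polynomial k, q.Monic ∧ Irreducible q ∧ res X V (ev q) ∈ (p : Ideal Γ(X, V)) := by
      rintro ⟨p, hp⟩
      haveI : p.IsPrime := hp.1.1
      have halg := isAlgebraic_of_field_hom (k := k) (Γ(X, V) ⧸ p)
        (((Ideal.Quotient.mk p).comp (res X V)).comp i) t
      have hint := isAlgebraic_iff_isIntegral.1 halg
      refine ⟨_, minpoly.monic hint, minpoly.irreducible hint, Ideal.Quotient.eq_zero_iff_mem.1 ?_⟩
      have h0 := minpoly.aeval k ((((Ideal.Quotient.mk p).comp (res X V)).comp i) t)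
      rw [Polynomial.hom_eval₂, Polynomial.hom_eval₂]
      rw [Polynomial.aeval_def] at h0
      exact h0
    choose q hqm hqi hq using hpoly
    haveI : Fintype S := hfin.fintype
    refine ⟨Finset.univ.image q, fun p hp => ?_, fun y hy => ?_⟩
    · obtain ⟨x, -, rfl⟩ := Finset.mem_image.1 hp
      exact ⟨hqm x, hqi x⟩
    · set P := hV.primeIdealOf ⟨y, hy⟩ with hP
      obtain ⟨p, hp, hle⟩ := Ideal.exists_minimalPrimes_le (bot_le (a := P.asIdeal))
      refine ⟨q ⟨p, hp⟩, Finset.mem_image_of_mem _ (Finset.mem_univ _), fun hmem => ?_⟩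
      have h1 : y ∈ X.basicOpen (res X V (ev (q ⟨p, hp⟩))) := by rw [basicOpen_res]; exact ⟨hy, hmem⟩
      have h2 : P ∈ (hV.fromSpec ⁻¹ᵁ X.basicOpen (res X V (ev (q ⟨p, hp⟩)))) := by
        show hV.fromSpec P ∈ X.basicOpen _
        rw [hP, hV.fromSpec_primeIdealOf]
        exact h1
      rw [hV.fromSpec_preimage_basicOpen] at h2
      exact h2 (hle (hq ⟨p, hp⟩))
  have hcov : ∀ y : X, ∃ q : Polynomial k, q.Monic ∧ Irreducible q ∧ y ∈ C q := by
    intro y
    obtain ⟨V, hV, hyV, -⟩ := exists_isAffineOpen_mem_and_subset (show y ∈ (⊤ : X.Opens) from trivial)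
    obtain ⟨Qs, hQs, hc⟩ := hloc V hV
    obtain ⟨q, hq, hyq⟩ := hc y hyV
    exact ⟨q, (hQs q hq).1, (hQs q hq).2, hyq⟩
  have hdisj : ∀ p q : Polynomial k, p.Monic → q.Monic → Irreducible p → Irreducible q → p ≠ q →
      ∀ y, y ∈ C p → y ∉ C q := by
    intro p q hpm hqm hp hq hne y hyp hyq
    have hcop : IsCoprime p q := (Irreducible.coprime_iff_not_dvd hp).2 fun hd =>
      hne (Polynomial.eq_of_monic_of_associated hpm hqm (hp.associated_of_dvd hq hd))
    obtain ⟨a, b, hab⟩ := hcop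
    have h1 := congrArg ev hab
    simp only [ev, Polynomial.eval₂_add, Polynomial.eval₂_mul, Polynomial.eval₂_one] at h1
    have hy : y ∈ X.basicOpen (Polynomial.eval₂ (globalMap f) (i t) a * Polynomial.eval₂ (globalMap f) (i t) p +
        Polynomial.eval₂ (globalMap f) (i t) b * Polynomial.eval₂ (globalMap f) (i t) q) := by
      rw [h1, Scheme.basicOpen_of_isUnit _ isUnit_one]
      trivial
    rcases X.basicOpen_add_le _ _ hy with h | h
    · rw [SetLike.mem_coe, Scheme.basicOpen_mul] at h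
      exact hyp h.2
    · rw [SetLike.mem_coe, Scheme.basicOpen_mul] at h
      exact hyq h.2
  obtain ⟨x₀⟩ : Nonempty X := ConnectedSpace.toNonempty
  obtain ⟨q₀, hm₀, hi₀, hx₀⟩ := hcov x₀
  have hopen : IsOpen (C q₀) := by
    rw [isOpen_iff_forall_mem_open]
    intro y hy
    obtain ⟨V, hV, hyV, -⟩ := exists_isAffineOpen_mem_and_subset (show y ∈ (⊤ : X.Opens) from trivial)
    obtain ⟨Qs, hQs, hc⟩ := hloc V hV
    refine ⟨(V : Set X) ∩ ⋂ q ∈ Qs.erase q₀, (X.basicOpen (ev q) : Set X), ?_, ?_, hyV, ?_⟩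
    · rintro z ⟨hzV, hz⟩
      obtain ⟨q, hq, hzq⟩ := hc z hzV
      by_cases hqq : q = q₀
      · exact hqq ▸ hzq
      · exact absurd (Set.mem_iInter₂.1 hz q (Finset.mem_erase.2 ⟨hqq, hq⟩)) hzq
    · exact V.2.inter (isOpen_biInter_finset fun q _ => (X.basicOpen (ev q)).2)
    · refine Set.mem_iInter₂.2 fun q hq => ?_
      obtain ⟨hne, hq⟩ := Finset.mem_erase.1 hq
      by_contra hn
      exact hdisj q₀ q hm₀ (hQs q hq).1 hi₀ (hQs q hq).2 (Ne.symm hne) y hy hn
  have huniv : C q₀ = Set.univ :=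
    IsClopen.eq_univ ⟨(X.basicOpen (ev q₀)).2.isClosed_compl, hopen⟩ ⟨x₀, hx₀⟩
  refine ⟨q₀, hm₀, (basicOpen_eq_bot_iff _).1 (Opens.ext ?_)⟩
  simpa [C, Set.compl_univ_iff] using huniv

end Groth.Agent.UnitsFG
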