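import Groth.Agent.Lib.FunField.Degree
import Mathlib.RingTheory.NoetherNormalization
import Mathlib.RingTheory.AlgebraicIndependent.TranscendenceBasis
import Mathlib.RingTheory.AlgebraicIndependent.AlgebraicClosure
import Mathlib.Combinatorics.Matroid.Closure
import Mathlib.RingTheory.Polynomial.UniqueFactorization
import Mathlib.Tactic

/-!
# Units of finitely generated domains modulo constants

For a finitely generated domain `A` over a field `k` there is a homomorphism from `Aˣ` to a free abelian
group of finite rank all of whose kernel is algebraic over `k`; hence subfields of `A` are algebraic.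
-/

set_option autoImplicit false
set_option linter.style.haveILetI false
universe u

namespace Groth.Agent.UnitsFG

open FunFld

variable {k : Type u} [Field k]

/-- Elements algebraic over every coordinate hyperplane of an independent family are algebraic over `k`. -/
theorem isAlgebraic_of_forall {K : Type u} [Field K] [Algebra k K] {s : ℕ} {y : Fin s → K}
    (hy : AlgebraicIndependent k y) (hs : 0 < s) {u : K}
    (h : ∀ j, IsAlgebraic (IntermediateField.adjoin k (y '' {j}ᶜ)) u) : IsAlgebraic k u := by
  haveI : Nonempty (Fin s) := ⟨⟨0, hs⟩⟩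
  have hind : (AlgebraicIndependent.matroid k K).Indep (⋃ j : Fin s, y '' {j}ᶜ) :=
    Matroid.Indep.subset (AlgebraicIndependent.matroid_indep_iff.2 hy.to_subtype_range)
      (Set.iUnion_subset fun j => Set.image_subset_range _ _)
  have hmem : ∀ j, u ∈ (AlgebraicIndependent.matroid k K).closure (y '' {j}ᶜ) := fun j => by
    rw [AlgebraicIndependent.matroid_closure_eq, SetLike.mem_coe, Subalgebra.mem_algebraicClosure]
    have := h j
    contrapose! this
    exact (IntermediateField.transcendental_adjoin_iff).2 this
  have h2 : u ∈ (AlgebraicIndependent.matroid k K).closure (⋂ j : Fin s, y '' {j}ᶜ) := by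
    rw [Matroid.closure_iInter_eq_iInter_closure_of_iUnion_indep _ hind]
    exact Set.mem_iInter.2 hmem
  have he : (⋂ j : Fin s, y '' {j}ᶜ) = (∅ : Set K) := by
    refine Set.eq_empty_iff_forall_notMem.2 fun x hx => ?_
    rw [Set.mem_iInter] at hx
    obtain ⟨i, -, hix⟩ := hx ⟨0, hs⟩
    obtain ⟨i', hi', hi''⟩ := hx i
    exact hi' (hy.injective (hi''.trans hix.symm))
  rw [he, AlgebraicIndependent.matroid_closure_eq, SetLike.mem_coe, Subalgebra.mem_algebraicClosure] at h2
  haveI : Algebra.IsAlgebraic k (Algebra.adjoin k (∅ : Set K)) := by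
    rw [← Subalgebra.isAlgebraic_iff]
    intro x hx
    rw [Algebra.adjoin_empty, Algebra.mem_bot] at hx
    obtain ⟨c, rfl⟩ := hx
    exact isAlgebraic_algebraMap c
  exact h2.restrictScalars k

/-- **Units modulo constants, domain case.** -/
theorem exists_hom (A : Type u) [CommRing A] [IsDomain A] [Algebra k A] [Algebra.FiniteType k A] :
    ∃ (ι : Type u) (_ : Fintype ι) (φ : Aˣ →* Multiplicative (ι → ℤ)),
      ∀ u, φ u = 1 → IsAlgebraic k (u : A) := by
  classical
  obtain ⟨s, g, hg, hgfin⟩ := exists_finite_inj_algHom_of_fg k A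
  algebraize [g.toRingHom]
  haveI : IsScalarTower k (MvPolynomial (Fin s) k) A :=
    IsScalarTower.of_algebraMap_eq fun c => (g.commutes c).symm
  haveI : Module.Finite (MvPolynomial (Fin s) k) A := hgfin
  haveI : Algebra.IsIntegral (MvPolynomial (Fin s) k) A := Algebra.IsIntegral.of_finite _ A
  rcases Nat.eq_zero_or_pos s with rfl | hs
  · refine ⟨ULift.{u} (Fin 0), inferInstance, 1, fun u _ => ?_⟩
    have hu : IsIntegral (MvPolynomial (Fin 0) k) (u : A) := Algebra.IsIntegral.isIntegral _
    obtain ⟨p, hp, hpu⟩ := hu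
    let e : MvPolynomial (Fin 0) k →+* k := MvPolynomial.eval fun i => i.elim0
    have hring : (algebraMap k A).comp e = algebraMap (MvPolynomial (Fin 0) k) A := by
      apply MvPolynomial.ringHom_ext
      · intro c
        simp [e, IsScalarTower.algebraMap_apply k (MvPolynomial (Fin 0) k) A, MvPolynomial.algebraMap_eq]
      · exact fun i => i.elim0
    refine IsIntegral.isAlgebraic ⟨p.map e, hp.map _, ?_⟩
    rw [Polynomial.eval₂_map, hring]
    exact hpu
  set K := FractionRing A
  have hinjK : Function.Injective (algebraMap A K) := IsFractionRing.injective A K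
  let yy : Fin s → A := fun j => algebraMap (MvPolynomial (Fin s) k) A (MvPolynomial.X j)
  let y : Fin s → K := fun j => algebraMap A K (yy j)
  have hy : AlgebraicIndependent k y := by
    have h1 : AlgebraicIndependent k fun j : Fin s => (MvPolynomial.X j : MvPolynomial (Fin s) k) :=
      MvPolynomial.algebraicIndependent_X (Fin s) k
    exact h1.map' (f := (IsScalarTower.toAlgHom k A K).comp g) (hinjK.comp hg)
  -- generators of `K`
  obtain ⟨G, hG⟩ := Algebra.FiniteType.out (R := k) (A := A)
  let E : Fin s → IntermediateField k K := fun j => IntermediateField.adjoin k (y '' {j}ᶜ)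
  have hFF : ∀ j, FunField.FF (E j) K := by
    intro j
    refine ⟨y j, ?_, ?_⟩
    · exact IntermediateField.transcendental_adjoin_iff.2 ((hy.transcendental_adjoin_iff).2 (by simp))
    set L := IntermediateField.adjoin (E j) ({y j} : Set K)
    have hyL : ∀ i, y i ∈ L := by
      intro i
      rcases eq_or_ne i j with rfl | hij
      · exact IntermediateField.subset_adjoin _ _ rfl
      · exact IntermediateField.algebraMap_mem L
          (⟨y i, IntermediateField.subset_adjoin _ _ ⟨i, hij, rfl⟩⟩ : E j)
    -- `A` is integral over `L`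
    have hint : ∀ a : A, IsIntegral L (algebraMap A K a) := by
      intro a
      have hP : ∀ q : MvPolynomial (Fin s) k,
          algebraMap A K (algebraMap (MvPolynomial (Fin s) k) A q) ∈ L := by
        intro q
        induction q using MvPolynomial.induction_on with
        | C c =>
          rw [← MvPolynomial.algebraMap_eq, ← IsScalarTower.algebraMap_apply, ← IsScalarTower.algebraMap_apply]
          exact (L.restrictScalars k).algebraMap_mem c
        | add p q hp hq => rw [map_add, map_add]; exact add_mem hp hq
        | mul_X p i hp => rw [map_mul, map_mul]; exact mul_mem hp (hyL i)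
      obtain ⟨p, hp, hpa⟩ := Algebra.IsIntegral.isIntegral (R := MvPolynomial (Fin s) k) a
      let f : MvPolynomial (Fin s) k →+* L :=
        ((algebraMap A K).comp (algebraMap (MvPolynomial (Fin s) k) A)).codRestrict L hP
      refine ⟨p.map f, hp.map f, ?_⟩
      rw [Polynomial.eval₂_map, show (algebraMap L K).comp f =
        (algebraMap A K).comp (algebraMap (MvPolynomial (Fin s) k) A) from RingHom.ext fun q => rfl,
        ← Polynomial.hom_eval₂, hpa, map_zero]
    haveI : FiniteDimensional L (IntermediateField.adjoin L (algebraMap A K '' (G : Set A))) := by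
      haveI : Finite ↑(algebraMap A K '' (G : Set A)) := ((G.finite_toSet).image _).to_subtype
      exact IntermediateField.finiteDimensional_adjoin fun z ⟨a, _, hz⟩ => hz ▸ hint a
    have htop : IntermediateField.adjoin L (algebraMap A K '' (G : Set A)) = ⊤ := by
      refine eq_top_iff.2 fun z _ => ?_
      obtain ⟨a, b, -, rfl⟩ := IsFractionRing.div_surjective (A := A) z
      have hA : ∀ a : A, algebraMap A K a ∈ IntermediateField.adjoin L (algebraMap A K '' (G : Set A)) := by
        intro a
        have ha : a ∈ Algebra.adjoin k (G : Set A) := hG ▸ trivial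
        induction ha using Algebra.adjoin_induction with
        | mem x hx => exact IntermediateField.subset_adjoin _ _ ⟨x, hx, rfl⟩
        | algebraMap c =>
          rw [← IsScalarTower.algebraMap_apply, IsScalarTower.algebraMap_apply k (E j) K,
            IsScalarTower.algebraMap_apply (E j) L K]
          exact IntermediateField.algebraMap_mem _ _
        | add x y _ _ hx hy => rw [map_add]; exact add_mem hx hy
        | mul x y _ _ hx hy => rw [map_mul]; exact mul_mem hx hy
      exact div_mem (hA a) (hA b)
    exact Module.Finite.equiv ((LinearEquiv.ofEq _ _ (congrArg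
      (fun M : IntermediateField L K => M.toSubalgebra.toSubmodule) htop)).trans
      Submodule.topEquiv)
  have hfin : ∀ j, {P : Place (E j) K | P.ord (y j) < 0}.Finite := fun j =>
    (FunField.finite_support_ord (hFF j) (y j)).subset fun P hP => Function.mem_support.2 (ne_of_lt hP)
  -- away from the poles of `y j` all elements of `A` are integral
  have hreg : ∀ j (P : Place (E j) K), 0 ≤ P.ord (y j) → ∀ a : A, algebraMap A K a ∈ P.O := by
    intro j P hP a
    have hP' : ∀ q : MvPolynomial (Fin s) k,
        algebraMap A K (algebraMap (MvPolynomial (Fin s) k) A q) ∈ P.O := by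
      intro q
      induction q using MvPolynomial.induction_on with
      | C c =>
        rw [← MvPolynomial.algebraMap_eq, ← IsScalarTower.algebraMap_apply, ← IsScalarTower.algebraMap_apply,
          IsScalarTower.algebraMap_apply k (E j) K]
        exact P.2.1 _
      | add p q hp hq => rw [map_add, map_add]; exact add_mem hp hq
      | mul_X p i hp =>
        rw [map_mul, map_mul]
        refine mul_mem hp ?_
        rcases eq_or_ne i j with rfl | hij
        · exact (FunField.ord_nonneg_iff P _).1 hP
        · exact P.2.1 (⟨y i, IntermediateField.subset_adjoin _ _ ⟨i, hij, rfl⟩⟩ : E j)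
    obtain ⟨p, hp, hpa⟩ := Algebra.IsIntegral.isIntegral (R := MvPolynomial (Fin s) k) a
    let f : MvPolynomial (Fin s) k →+* P.O :=
      ((algebraMap A K).comp (algebraMap (MvPolynomial (Fin s) k) A)).codRestrict P.O hP'
    have hi : IsIntegral P.O (algebraMap A K a) := by
      refine ⟨p.map f, hp.map f, ?_⟩
      rw [Polynomial.eval₂_map, show (algebraMap P.O K).comp f =
        (algebraMap A K).comp (algebraMap (MvPolynomial (Fin s) k) A) from RingHom.ext fun q => rfl,
        ← Polynomial.hom_eval₂, hpa, map_zero]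
    obtain ⟨b, hb⟩ := IsIntegrallyClosed.isIntegral_iff.1 hi
    rw [← hb]
    exact b.2
  haveI : ∀ j, Fintype {P : Place (E j) K | P.ord (y j) < 0} := fun j => (hfin j).fintype
  have hunit0 : ∀ u : Aˣ, algebraMap A K (u : A) ≠ 0 := fun u h =>
    u.ne_zero ((map_eq_zero_iff _ hinjK).1 h)
  let φ : Aˣ →* Multiplicative ((Σ j : Fin s, {P : Place (E j) K | P.ord (y j) < 0}) → ℤ) :=
    MonoidHom.mk' (fun u => Multiplicative.ofAdd fun p => p.2.1.ord (algebraMap A K (u : A)))
      fun u v => by
        rw [← ofAdd_add]
        congr 1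
        funext p
        rw [Units.val_mul, map_mul, FunField.ord_mul _ (hunit0 u) (hunit0 v)]
        rfl
  refine ⟨_, inferInstance, φ, fun u hu => ?_⟩
  have halg : IsAlgebraic k (algebraMap A K (u : A)) := by
    refine isAlgebraic_of_forall hy hs fun j => ?_
    refine FunField.isAlgebraic_of_mem_L_zero (hFF j) ((FunField.mem_L_iff_ord (hunit0 u)).2 fun P => ?_)
    have : 0 ≤ P.ord (algebraMap A K (u : A)) := by
      rcases le_or_gt 0 (P.ord (y j)) with hP | hP
      · exact (FunField.ord_nonneg_iff P _).2 (hreg j P hP _)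
      · exact le_of_eq (congrFun (Multiplicative.ofAdd.injective hu) ⟨j, ⟨P, hP⟩⟩).symm
    simpa using this
  exact (isAlgebraic_algebraMap_iff hinjK).1 halg

theorem infinite_monic_irreducible (Φ : Type*) [Field Φ] :
    Infinite {q : Polynomial Φ // q.Monic ∧ Irreducible q} := by
  refine Infinite.of_not_fintype fun hF => ?_
  classical
  obtain ⟨S, hS⟩ : ∃ S : Finset (Polynomial Φ), ∀ q, q ∈ S ↔ q.Monic ∧ Irreducible q :=
    ⟨(Finset.univ : Finset {q : Polynomial Φ // q.Monic ∧ Irreducible q}).map (Function.Embedding.subtype _),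
      fun q => by simp⟩
  obtain ⟨P, hPm, hP⟩ : ∃ P : Polynomial Φ, P.Monic ∧ ∀ q : Polynomial Φ, q.Monic → Irreducible q → q ∣ P :=
    ⟨S.prod id, Polynomial.monic_prod_of_monic S id fun q hq => ((hS q).1 hq).1,
      fun q h1 h2 => Finset.dvd_prod_of_mem (f := id) ((hS q).2 ⟨h1, h2⟩)⟩
  have h1 : ¬ IsUnit (P * Polynomial.X + 1) := fun h => by
    have hdeg := Polynomial.natDegree_eq_zero_of_isUnit h
    rw [← Polynomial.C_1, Polynomial.natDegree_add_C, Polynomial.natDegree_mul hPm.ne_zero Polynomial.X_ne_zero,
      Polynomial.natDegree_X] at hdeg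
    omega
  have h0 : P * Polynomial.X + 1 ≠ 0 := fun h => by
    have := congrArg (Polynomial.coeff · 0) h
    simp at this
  obtain ⟨q, hq, hqd⟩ := WfDvdMonoid.exists_irreducible_factor h1 h0
  have hass : Associated q (q * Polynomial.C q.leadingCoeff⁻¹) := associated_mul_unit_right _ _
    (Polynomial.isUnit_C.2 (IsUnit.mk0 _ (inv_ne_zero (Polynomial.leadingCoeff_ne_zero.2 hq.ne_zero))))
  have hqP := hP _ (Polynomial.monic_mul_leadingCoeff_inv hq.ne_zero) (hass.irreducible hq)
  exact hq.not_isUnit (isUnit_of_dvd_one ((dvd_add_right ((hass.dvd.trans hqP).mul_right _)).1 hqd))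

set_option maxHeartbeats 1600000 in
/-- A subfield of a finitely generated domain is algebraic over the base field. -/
theorem isAlgebraic_of_field_hom (A : Type u) [CommRing A] [IsDomain A] [Algebra k A]
    [Algebra.FiniteType k A] {F : Type*} [Field F] (i : F →+* A) (t : F) : IsAlgebraic k (i t) := by
  classical
  by_contra htr
  obtain ⟨ι, _, φ, hφ⟩ := exists_hom (k := k) A
  -- the prime subring of `k`
  obtain ⟨Φ, hΦf, σ, τ, hστ⟩ : ∃ (Φ : Type) (_ : Field Φ) (σ : Φ →+* F) (τ : Φ →+* k),
      i.comp σ = (algebraMap k A).comp τ := by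
    obtain ⟨p, hp⟩ := CharP.exists k
    haveI : CharP A p := charP_of_injective_algebraMap (algebraMap k A).injective p
    haveI : CharP F p := (i.charP_iff i.injective p).2 inferInstance
    rcases CharP.char_is_prime_or_zero k p with hpp | rfl
    · haveI : Fact p.Prime := ⟨hpp⟩
      exact ⟨ZMod p, inferInstance, ZMod.castHom (dvd_refl p) F, ZMod.castHom (dvd_refl p) k,
        Subsingleton.elim _ _⟩
    · haveI : CharZero F := CharP.charP_to_charZero F
      haveI : CharZero k := CharP.charP_to_charZero k
      exact ⟨ℚ, inferInstance, Rat.castHom F, Rat.castHom k, Subsingleton.elim _ _⟩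
  have htr' : ∀ q : Polynomial Φ, q ≠ 0 → Polynomial.eval₂ σ t q ≠ 0 := by
    intro q hq h0
    refine htr ⟨q.map τ, (Polynomial.map_ne_zero_iff τ.injective).2 hq, ?_⟩
    rw [Polynomial.aeval_def, Polynomial.eval₂_map, ← hστ, ← Polynomial.hom_eval₂, h0, map_zero]
  let Irr := {q : Polynomial Φ // q.Monic ∧ Irreducible q}
  haveI : Infinite Irr := infinite_monic_irreducible Φ
  let ev : Irr → Aˣ := fun q =>
    Units.map (i : F →* A) (Units.mk0 (Polynomial.eval₂ σ t q.1) (htr' _ q.2.1.ne_zero))
  -- an integral dependence between the orders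
  have hnli : ¬ LinearIndependent ℤ (fun q : Irr => Multiplicative.toAdd (φ (ev q))) := by
    intro hli
    haveI := hli.finite
    exact not_finite Irr
  rw [linearIndependent_iff'] at hnli
  push Not at hnli
  obtain ⟨T, c, hc, q₀, hq₀, hc₀⟩ := hnli
  let num : Polynomial Φ := ∏ q ∈ T, q.1 ^ (c q).toNat
  let den : Polynomial Φ := ∏ q ∈ T, q.1 ^ (-c q).toNat
  let u : Aˣ := (∏ q ∈ T, ev q ^ (c q).toNat) * (∏ q ∈ T, ev q ^ (-c q).toNat)⁻¹
  have hu : φ u = 1 := by
    apply Multiplicative.toAdd.injective
    simp only [u, map_mul, map_inv, map_prod, map_pow, toAdd_mul, toAdd_inv, toAdd_prod, toAdd_pow, toAdd_one]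
    rw [← sub_eq_add_neg, ← Finset.sum_sub_distrib, ← hc]
    refine Finset.sum_congr rfl fun q _ => ?_
    rw [← natCast_zsmul, ← natCast_zsmul, ← sub_smul, Int.toNat_sub_toNat_neg]
  -- `u * den(t) = num(t)` with `u` algebraic over `k`
  obtain ⟨p, hp0, hpu⟩ := hφ u hu
  have hev : ∀ e : Irr → ℕ, ((∏ q ∈ T, ev q ^ e q : Aˣ) : A) = i (Polynomial.eval₂ σ t (∏ q ∈ T, q.1 ^ e q)) := by
    intro e
    rw [Units.coe_prod, Polynomial.eval₂_finsetProd, map_prod]
    refine Finset.prod_congr rfl fun q _ => ?_
    rw [Units.val_pow_eq_pow_val, Polynomial.eval₂_pow, map_pow]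
    rfl
  have hrel : (u : A) * i (Polynomial.eval₂ σ t den) = i (Polynomial.eval₂ σ t num) := by
    rw [← hev, ← hev, ← Units.val_mul, inv_mul_cancel_right]
  -- work in the fraction field: a polynomial relation for `i t` over `k`
  set K := FractionRing A
  let j : A →ₐ[k] K := IsScalarTower.toAlgHom k A K
  have hj : Function.Injective j := IsFractionRing.injective A K
  have hut : IsAlgebraic k (j (u : A)) := IsAlgebraic.algHom j ⟨p, hp0, hpu⟩
  set F₀ := IntermediateField.adjoin k ({j (u : A)} : Set K)
  haveI : FiniteDimensional k F₀ := IntermediateField.adjoin.finiteDimensional hut.isIntegral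
  have htrK : Transcendental F₀ (j (i t)) := fun hal =>
    htr ((isAlgebraic_algHom_iff j hj).1 (hal.restrictScalars k))
  let Q : Polynomial F₀ := Polynomial.C ⟨j (u : A), IntermediateField.mem_adjoin_simple_self _ _⟩ *
      den.map ((algebraMap k F₀).comp τ) - num.map ((algebraMap k F₀).comp τ)
  have hevK : ∀ r : Polynomial Φ, Polynomial.aeval (j (i t)) (r.map ((algebraMap k F₀).comp τ)) =
      j (i (Polynomial.eval₂ σ t r)) := by
    intro r
    rw [Polynomial.aeval_def, Polynomial.eval₂_map]
    change _ = ((j : A →+* K).comp i) (Polynomial.eval₂ σ t r)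
    rw [Polynomial.hom_eval₂]
    congr 1
    rw [RingHom.comp_assoc, hστ]
    ext x
    simp [j, ← IsScalarTower.algebraMap_apply]
  have hQ : Q = 0 := by
    by_contra hne
    refine htrK ⟨Q, hne, ?_⟩
    rw [map_sub, map_mul, Polynomial.aeval_C, hevK, hevK, IntermediateField.algebraMap_apply,
      ← map_mul, hrel, sub_self]
  -- hence `den ∣ num` and `num ∣ den` up to constants, impossible
  have hass : Associated (den.map ((algebraMap k F₀).comp τ)) (num.map ((algebraMap k F₀).comp τ)) :=
    ⟨Units.map (Polynomial.C (R := F₀) : F₀ →* Polynomial F₀)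
      (Units.mk0 ⟨j (u : A), IntermediateField.mem_adjoin_simple_self _ _⟩ fun h =>
        u.ne_zero (hj ((congrArg Subtype.val h).trans (map_zero j).symm))), by
      rw [mul_comm]; exact sub_eq_zero.1 hQ⟩
  have hmon : ∀ e : Irr → ℕ, (∏ q ∈ T, q.1 ^ e q).Monic := fun e =>
    Polynomial.monic_prod_of_monic _ _ fun q _ => q.2.1.pow _
  have heq : den = num := Polynomial.map_injective _ ((algebraMap k F₀).comp τ).injective
    (Polynomial.eq_of_monic_of_associated ((hmon _).map _) ((hmon _).map _) hass)
  have hdvd : ∀ e : Irr → ℕ, q₀.1 ∣ ∏ q ∈ T, q.1 ^ e q ↔ e q₀ ≠ 0 := by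
    intro e
    constructor
    · intro h he
      obtain ⟨q, hq, hdvd⟩ := (Prime.dvd_finsetProd_iff q₀.2.2.prime _).1 h
      have hq' : q₀.1 = q.1 := Polynomial.eq_of_monic_of_associated q₀.2.1 q.2.1
        (q₀.2.2.associated_of_dvd q.2.2 (q₀.2.2.prime.dvd_of_dvd_pow hdvd))
      rw [← Subtype.ext hq', he, pow_zero] at hdvd
      exact q₀.2.2.not_isUnit (isUnit_of_dvd_one hdvd)
    · exact fun he => (dvd_pow_self _ he).trans (Finset.dvd_prod_of_mem (fun q : Irr => q.1 ^ e q) hq₀)
  have h1 := hdvd fun q => (c q).toNat
  have h2 := hdvd fun q => (-c q).toNat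
  have h3 := congrArg (q₀.1 ∣ ·) heq
  simp only [den, num, h1, h2, eq_iff_iff] at h3
  rcases lt_or_gt_of_ne hc₀ with h | h <;> omega

end Groth.Agent.UnitsFG
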